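import Cfsg.Agent.H773.Pw.Spor
import Cfsg.Agent.H859.BigNum

/-!
# The fourth Janko group (S2454, helper621)
-/

set_option autoImplicit false

namespace Cfsg.Agent.H621.PW

open Cfsg Subgroup Cfsg.Agent.H514.DP Cfsg.Agent.H773.Pw

universe u

section Tool

variable {K : Type u} [Group K] [Finite K] [IsSimpleGroup K]

theorem centralizer_zpowers {G : Type*} [Group G] (x : G) :
    centralizer ((zpowers x : Subgroup G) : Set G) = centralizer {x} := by
  apply le_antisymm
  · exact centralizer_le (by simp)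
  · intro g hg
    rw [mem_centralizer_iff]
    rintro y ⟨n, rfl⟩
    have h : Commute x g := (mem_centralizer_singleton_iff.1 hg).symm
    exact (h.zpow_left n).eq

omit [IsSimpleGroup K] in
theorem exists_zpowers {l : ℕ} (hl : l.Prime) (hd : l ∣ Nat.card K) :
    ∃ y : K, orderOf y = l ∧ Nat.card (zpowers y) = l := by
  obtain ⟨y, hy⟩ := exists_order hl hd
  exact ⟨y, hy, by rw [Nat.card_zpowers, hy]⟩

/-- the prime itself, from the centralizers of the subgroups of order `l` -/
theorem pw_self (hna : ¬ ∀ a b : K, a * b = b * a) {l D k c : ℕ} (hl : l.Prime) (hd : l ∣ Nat.card K)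
    (hD : MinDeg K D) (hc : ∀ P : Subgroup K, Nat.card P = l → Nat.card (centralizer (P : Set K)) ≤ c)
    (hk : 3 ≤ k) (hC : (c - 1) ^ k < D ^ (2 * k - 4)) (hN : k ≤ 70) : PW l 70 K :=
  pw_of_order hna hl hd hD (fun y hy => by
    rw [← centralizer_zpowers]
    exact hc _ (by rw [Nat.card_zpowers, hy])) hk hC hN

/-- a prime dividing the index of the centralizer in the normalizer -/
theorem pw_trick (hna : ¬ ∀ a b : K, a * b = b * a) {p l D k c e : ℕ} (hp : p.Prime) (hl : l.Prime)
    (hlK : l ∣ Nat.card K) (hpe : p ∣ e) (hD : MinDeg K D)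
    (hc : ∀ P : Subgroup K, Nat.card P = l → Nat.card (centralizer (P : Set K)) = c ∧
      Nat.card (normalizer (P : Set K)) = c * e)
    (hk : 3 ≤ k) (hC : (c - 1) ^ k < D ^ (2 * k - 4)) (hN : 2 * k ≤ 70) : PW p 70 K := by
  obtain ⟨y, hy, hP⟩ := exists_zpowers hl hlK
  obtain ⟨h1, h2⟩ := hc _ hP
  refine pw_of_norm hna hp hl hy ?_ hD (by rw [← centralizer_zpowers]; exact h1.le) hk hC hN
  have h3 : (centralizer (zpowers y : Set K)).relIndex (normalizer (zpowers y : Set K)) *
      Nat.card (centralizer (zpowers y : Set K)) = Nat.card (normalizer (zpowers y : Set K)) := by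
    have h4 := relIndex_mul_relIndex ⊥ _ _ bot_le (Subgroup.centralizer_le_normalizer (zpowers y : Set K))
    rw [relIndex_bot_left, relIndex_bot_left] at h4
    rw [mul_comm]
    exact h4
  rw [h1, h2, mul_comm c e] at h3
  have hc0 : 0 < c := by
    rw [← h1]
    exact Nat.card_pos
  rw [Nat.eq_of_mul_eq_mul_right hc0 h3]
  exact hpe

end Tool

namespace JFour

open Cfsg.Agent.H859.BigNum Cfsg.Agent.H859.BigCent

theorem card_j4 : Nat.card Spor.J4 = 86775571046077562880 := Cfsg.Agent.H858.FixJ4.card_J4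

theorem pw {p : ℕ} [IsSimpleGroup Spor.J4] (hp : p.Prime) (hd : p ∣ Nat.card Spor.J4) : PW p 70 Spor.J4 := by
  have hc := card_j4
  have hfin : Finite Spor.J4 := Nat.finite_of_card_ne_zero (by rw [hc]; norm_num)
  have hna : ¬ ∀ a b : Spor.J4, a * b = b * a :=
    H253.TC.not_comm_of_card hc (by norm_num) (p := 43) (by norm_num) (by norm_num) (by norm_num)
  have d : ∀ {l : ℕ}, l ∣ 86775571046077562880 → l ∣ Nat.card Spor.J4 := fun h => by rw [hc]; exact h
  have k23 : ∀ P : Subgroup Spor.J4, Nat.card P = 23 → Nat.card (centralizer (P : Set Spor.J4)) = 23 ∧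
    Nat.card (normalizer (P : Set Spor.J4)) = 23 * 22 := fun P hP => data23 hP
  have k29 : ∀ P : Subgroup Spor.J4, Nat.card P = 29 → Nat.card (centralizer (P : Set Spor.J4)) = 29 ∧
    Nat.card (normalizer (P : Set Spor.J4)) = 29 * 28 := fun P hP => data29' hP
  have k31 : ∀ P : Subgroup Spor.J4, Nat.card P = 31 → Nat.card (centralizer (P : Set Spor.J4)) = 31 ∧
    Nat.card (normalizer (P : Set Spor.J4)) = 31 * 10 := fun P hP => data31 hP
  have k37 : ∀ P : Subgroup Spor.J4, Nat.card P = 37 → Nat.card (centralizer (P : Set Spor.J4)) = 37 ∧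
    Nat.card (normalizer (P : Set Spor.J4)) = 37 * 12 := fun P hP => data37 hP
  have k43 : ∀ P : Subgroup Spor.J4, Nat.card P = 43 → Nat.card (centralizer (P : Set Spor.J4)) = 43 ∧
    Nat.card (normalizer (P : Set Spor.J4)) = 43 * 14 := fun P hP => data43 hP
  -- the degree bound
  have hD : MinDeg Spor.J4 28 := by
    obtain ⟨x, hx, hP⟩ := exists_zpowers (K := Spor.J4) (l := 29) (by norm_num) (d (by norm_num))
    refine minDeg_of_norm hna (l := 29) (by norm_num) hx ?_
    obtain ⟨h1, h2⟩ := k29 _ hP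
    rw [h1, h2]
  have hcases : p = 2 ∨ p = 3 ∨ p = 5 ∨ p = 7 ∨ p = 11 ∨ p = 23 ∨ p = 29 ∨ p = 31 ∨ p = 37 ∨ p = 43 := by
    rw [hc, show (86775571046077562880 : ℕ) = 2 ^ 21 * (3 ^ 3 * (5 * (7 * (11 ^ 3 * (23 * (29 * (31 * (37 * 43))))))))
      by norm_num] at hd
    have key : ∀ {q k : ℕ}, q.Prime → p ∣ q ^ k → p = q := fun hq h =>
      (Nat.prime_dvd_prime_iff_eq hp hq).1 (hp.dvd_of_dvd_pow h)
    rcases hp.dvd_mul.1 hd with h | h
    · exact Or.inl (key (by norm_num) h)
    rcases hp.dvd_mul.1 h with h | h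
    · exact Or.inr (Or.inl (key (by norm_num) h))
    rcases hp.dvd_mul.1 h with h | h
    · exact Or.inr (Or.inr (Or.inl ((Nat.prime_dvd_prime_iff_eq hp (by norm_num)).1 h)))
    rcases hp.dvd_mul.1 h with h | h
    · exact Or.inr (Or.inr (Or.inr (Or.inl ((Nat.prime_dvd_prime_iff_eq hp (by norm_num)).1 h))))
    rcases hp.dvd_mul.1 h with h | h
    · exact Or.inr (Or.inr (Or.inr (Or.inr (Or.inl (key (by norm_num) h)))))
    rcases hp.dvd_mul.1 h with h | h
    · have := (Nat.prime_dvd_prime_iff_eq hp (by norm_num)).1 h; omega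
    rcases hp.dvd_mul.1 h with h | h
    · have := (Nat.prime_dvd_prime_iff_eq hp (by norm_num)).1 h; omega
    rcases hp.dvd_mul.1 h with h | h
    · have := (Nat.prime_dvd_prime_iff_eq hp (by norm_num)).1 h; omega
    rcases hp.dvd_mul.1 h with h | h
    · have := (Nat.prime_dvd_prime_iff_eq hp (by norm_num)).1 h; omega
    · have := (Nat.prime_dvd_prime_iff_eq hp (by norm_num)).1 h; omega
  rcases hcases with rfl | rfl | rfl | rfl | rfl | rfl | rfl | rfl | rfl | rfl
  · exact pw_trick hna (l := 29) (k := 5) (by norm_num) (by norm_num) (d (by norm_num)) (by norm_num) hD k29 (by norm_num)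
      (by norm_num) (by norm_num)
  · exact pw_trick hna (l := 37) (k := 5) (by norm_num) (by norm_num) (d (by norm_num)) (by norm_num) hD k37 (by norm_num)
      (by norm_num) (by norm_num)
  · exact pw_trick hna (l := 31) (k := 5) (by norm_num) (by norm_num) (d (by norm_num)) (by norm_num) hD k31 (by norm_num)
      (by norm_num) (by norm_num)
  · exact pw_trick hna (l := 29) (k := 5) (by norm_num) (by norm_num) (d (by norm_num)) (by norm_num) hD k29 (by norm_num)
      (by norm_num) (by norm_num)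
  · exact pw_trick hna (l := 23) (k := 5) (by norm_num) (by norm_num) (d (by norm_num)) (by norm_num) hD k23 (by norm_num)
      (by norm_num) (by norm_num)
  · exact pw_self hna (k := 5) (by norm_num) (d (by norm_num)) hD (fun P hP => (k23 P hP).1.le) (by norm_num)
      (by norm_num) (by norm_num)
  · exact pw_self hna (k := 5) (by norm_num) (d (by norm_num)) hD (fun P hP => (k29 P hP).1.le) (by norm_num)
      (by norm_num) (by norm_num)
  · exact pw_self hna (k := 5) (by norm_num) (d (by norm_num)) hD (fun P hP => (k31 P hP).1.le) (by norm_num)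
      (by norm_num) (by norm_num)
  · exact pw_self hna (k := 5) (by norm_num) (d (by norm_num)) hD (fun P hP => (k37 P hP).1.le) (by norm_num)
      (by norm_num) (by norm_num)
  · exact pw_self hna (k := 5) (by norm_num) (d (by norm_num)) hD (fun P hP => (k43 P hP).1.le) (by norm_num)
      (by norm_num) (by norm_num)

end JFour

/-- **`J4`** -/
theorem pw_j4 {S : Type*} [Group S] [Finite S] [IsSimpleGroup S] (h : Spor.IsoJ4 S) {p : ℕ} (hp : p.Prime)
    (hd : p ∣ Nat.card S) : PW p 70 S := by
  obtain ⟨e⟩ := h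
  have : IsSimpleGroup Spor.J4 := e.symm.isSimpleGroup
  exact (JFour.pw hp (by rw [← Nat.card_congr e.toEquiv]; exact hd)).congr e.symm

end Cfsg.Agent.H621.PW
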