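import Cfsg.Agent.H621.PW.Eleven
import Cfsg.Agent.H493.Sep.LyData
import Cfsg.Agent.SporRec.LyG2.G14
import Cfsg.Agent.SporRec.LyG2.LyEmb
import Cfsg.Agent.Ly.IndexEq
import Cfsg.Agent.S2371

/-!
# The Lyons group (S2454, helper621)
-/

set_option autoImplicit false
set_option maxRecDepth 10000

namespace Cfsg.Agent.H621.PW

open Cfsg Subgroup Cfsg.Agent.H514.DP Cfsg.Agent.H773.Pw

namespace Ly

open Cfsg.Agent.H493.Sep.LyLoc (normalizer_le loc37 loc67)

theorem card_ly : Nat.card Spor.Ly = 51765179004000000 := Cfsg.Agent.Ly.Setup.card_ly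

/-- a subgroup of order 31 which is its own centralizer -/
theorem exists_31 : ∃ R : Subgroup Spor.Ly, Nat.card R = 31 ∧ centralizer (R : Set Spor.Ly) ≤ R := by
  obtain ⟨R, -, hR, hRC⟩ := S2371.result (F := ZMod 5) 5 (ZMod.card 5) (by norm_num)
  norm_num at hR
  have hH : Cfsg.Agent.Ly.Setup.psi.range = Cfsg.Agent.SporRec.LyG2.LyEmb.H := by
    rw [Cfsg.Agent.Ly.Setup.range_psi]
    exact Cfsg.Agent.Ly.IndexEq.HH_eq
  let e : Cfsg.Agent.SporRec.LyG2.LyEmb.H ≃* Lie.chevG2.group (ZMod 5) :=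
    Cfsg.Agent.SporRec.LyG2.LyEmb.equivH.symm.trans Cfsg.Agent.SporRec.LyG2.G14.equivChev
  set R0 : Subgroup Spor.Ly := (R.map e.symm.toMonoidHom).map (Cfsg.Agent.SporRec.LyG2.LyEmb.H).subtype with hR0
  have hc : Nat.card R0 = 31 := by
    rw [hR0, card_map_of_injective (Subgroup.subtype_injective _), card_map_of_injective e.symm.injective, hR]
  have hle : R0 ≤ Cfsg.Agent.SporRec.LyG2.LyEmb.H := by
    rintro _ ⟨y, -, rfl⟩
    exact y.2
  have hN : normalizer (R0 : Set Spor.Ly) ≤ Cfsg.Agent.SporRec.LyG2.LyEmb.H := by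
    rw [← hH]
    exact normalizer_le hc (by
      show R0 ≤ Cfsg.Agent.Ly.Setup.psi.range
      rw [hH]
      exact hle)
  refine ⟨R0, hc, fun x hx => ?_⟩
  have hxH := hN (centralizer_le_normalizer _ hx)
  refine ⟨⟨x, hxH⟩, ?_, rfl⟩
  refine ⟨e ⟨x, hxH⟩, ?_, by simp⟩
  rw [SetLike.mem_coe, ← hRC, mem_centralizer_iff]
  intro r hr
  have h1 : ((e.symm r : Cfsg.Agent.SporRec.LyG2.LyEmb.H) : Spor.Ly) ∈ R0 := ⟨e.symm r, ⟨r, hr, rfl⟩, rfl⟩
  have h2 := mem_centralizer_iff.1 hx _ h1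
  have h3 : e.symm r * ⟨x, hxH⟩ = ⟨x, hxH⟩ * e.symm r := Subtype.ext h2
  have h4 := congrArg e h3
  rwa [map_mul, map_mul, MulEquiv.apply_symm_apply] at h4

theorem pw (B : H940.Eng.Base) {p : ℕ} (hp : p.Prime) (hd : p ∣ Nat.card Spor.Ly) : PW p 70 Spor.Ly := by
  have hc := card_ly
  have hfin : Finite Spor.Ly := Nat.finite_of_card_ne_zero (by rw [hc]; norm_num)
  have hs : IsSimpleGroup Spor.Ly := Cfsg.Agent.Ly.Setup.isSimple_ly
  have hna : ¬ ∀ a b : Spor.Ly, a * b = b * a :=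
    H253.TC.not_comm_of_card hc (by norm_num) (p := 67) (by norm_num) (by norm_num) (by norm_num)
  have d : ∀ {l : ℕ}, l ∣ 51765179004000000 → l ∣ Nat.card Spor.Ly := fun h => by rw [hc]; exact h
  have hD : MinDeg Spor.Ly 34 := minDeg_of_prime hc (by norm_num) (l := 67) (by norm_num) (by norm_num) (by norm_num)
    (by norm_num) (by norm_num) (by norm_num) (by norm_num)
  obtain ⟨L⟩ := Cfsg.Agent.TypeM.FactsLy.exists_mt_ly
  have hcases : p = 2 ∨ p = 3 ∨ p = 5 ∨ p = 7 ∨ p = 11 ∨ p = 31 ∨ p = 37 ∨ p = 67 := by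
    rw [hc, show (51765179004000000 : ℕ) = 2 ^ 8 * (3 ^ 7 * (5 ^ 6 * (7 * (11 * (31 * (37 * 67)))))) by norm_num] at hd
    have key : ∀ {q k : ℕ}, q.Prime → p ∣ q ^ k → p = q := fun hq h =>
      (Nat.prime_dvd_prime_iff_eq hp hq).1 (hp.dvd_of_dvd_pow h)
    rcases hp.dvd_mul.1 hd with h | h
    · exact Or.inl (key (by norm_num) h)
    rcases hp.dvd_mul.1 h with h | h
    · exact Or.inr (Or.inl (key (by norm_num) h))
    rcases hp.dvd_mul.1 h with h | h
    · exact Or.inr (Or.inr (Or.inl (key (by norm_num) h)))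
    rcases hp.dvd_mul.1 h with h | h
    · have := (Nat.prime_dvd_prime_iff_eq hp (by norm_num)).1 h; omega
    rcases hp.dvd_mul.1 h with h | h
    · have := (Nat.prime_dvd_prime_iff_eq hp (by norm_num)).1 h; omega
    rcases hp.dvd_mul.1 h with h | h
    · have := (Nat.prime_dvd_prime_iff_eq hp (by norm_num)).1 h; omega
    rcases hp.dvd_mul.1 h with h | h
    · have := (Nat.prime_dvd_prime_iff_eq hp (by norm_num)).1 h; omega
    · have := (Nat.prime_dvd_prime_iff_eq hp (by norm_num)).1 h; omega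
  rcases hcases with rfl | rfl | rfl | rfl | rfl | rfl | rfl | rfl
  · exact pw_mt L hna hp Elt.fac2 hD le_rfl
  · exact pw_mt L hna hp Elt.fac3 hD le_rfl
  · exact pw_mt L hna hp Elt.fac5 hD le_rfl
  · exact pw_mt L hna hp Elt.fac7 hD le_rfl
  · exact pw_mt L hna hp Elt.fac11 hD le_rfl
  · -- `p = 31`
    obtain ⟨R, hR, hRC⟩ := exists_31
    have : Fact (Nat.Prime 31) := ⟨hp⟩
    obtain ⟨⟨y, hyR⟩, hy⟩ := exists_prime_orderOf_dvd_card' (G := R) 31 (by rw [hR])
    have hy' : orderOf y = 31 := by rw [← hy, Subgroup.orderOf_mk]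
    have hz : zpowers y = R := by
      apply eq_of_le_of_card_ge (by rw [zpowers_le]; exact hyR)
      rw [Nat.card_zpowers, hy', hR]
    refine pw_of_pe hna (IsPE.of_prime hy').pe hD (c := 31) ?_ (k := 5) (by norm_num) (by norm_num) (by norm_num)
    rw [← centralizer_zpowers, hz, ← hR]
    exact card_le_of_le hRC
  · exact pw_self hna (l := 37) (c := 333) (k := 20) hp (d (by norm_num)) hD
      (fun P hP => Nat.le_of_dvd (by norm_num) ((loc37 B).2.2.2 P hP).1) (by norm_num) (by norm_num) (by norm_num)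
  · exact pw_self hna (l := 67) (c := 737) (k := 60) hp (d (by norm_num)) hD
      (fun P hP => Nat.le_of_dvd (by norm_num) ((loc67 B).2.2.2 P hP).1) (by norm_num) (by norm_num) (by norm_num)

end Ly

/-- **`Ly`**, from the classification -/
theorem pw_ly_of (B : H940.Eng.Base) {S : Type*} [Group S] [Finite S] [IsSimpleGroup S] (h : Spor.IsoLy S) {p : ℕ}
    (hp : p.Prime) (hd : p ∣ Nat.card S) : PW p 70 S := by
  obtain ⟨e⟩ := h
  exact (Ly.pw B hp (by rw [← Nat.card_congr e.toEquiv]; exact hd)).congr e.symm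

end Cfsg.Agent.H621.PW
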